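import Groth.Agent.UnramCardLib.Alg
import Groth.Prelude.Def_ModelsG
import Mathlib.AlgebraicGeometry.Morphisms.Finite
import Mathlib.AlgebraicGeometry.Morphisms.FormallyUnramified
import Mathlib.AlgebraicGeometry.FunctionField

/-!
Fibres of a finite unramified morphism of regular varieties.
-/

set_option autoImplicit false
set_option backward.isDefEq.respectTransparency false
set_option backward.defeqAttrib.useBackward true
set_option linter.style.haveILetI false

universe u

open CategoryTheory AlgebraicGeometry TopologicalSpace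

namespace Groth.Agent.UnramCardLib

theorem natCard_fibre (k : Type u) [Field k] [IsAlgClosed k] {X Y : Scheme.{u}}
    (sX : X ⟶ Spec (CommRingCat.of k)) [IsIntegral X] [IsIntegral Y] [LocallyOfFiniteType sX]
    (hregX : ∀ x : X, IsRegularLocalRing (X.presheaf.stalk x))
    (hregY : ∀ y : Y, IsRegularLocalRing (Y.presheaf.stalk y))
    (π : Y ⟶ X) [AlgebraicGeometry.IsFinite π] [AlgebraicGeometry.FormallyUnramified π]
    (e : π.base (genericPoint Y) = genericPoint X) (p : X) (hp : IsClosed ({p} : Set X)) :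
    Nat.card {q : Y // π.base q = p} =
      Models.homDegree (X.presheaf.stalkSpecializes (specializes_of_eq e) ≫ π.stalkMap (genericPoint Y)).hom := by
  classical
  haveI : IsLocallyNoetherian X := LocallyOfFiniteType.isLocallyNoetherian sX
  obtain ⟨_, ⟨V : X.Opens, (hV : IsAffineOpen V), rfl⟩, hpV, -⟩ :=
    X.isBasis_affineOpens.exists_subset_of_mem_open (Set.mem_univ p) isOpen_univ
  let U : Y.Opens := π ⁻¹ᵁ V
  have hU : IsAffineOpen U := hV.preimage π
  have hηV : genericPoint X ∈ V := (genericPoint_specializes p).mem_open V.2 hpV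
  have hηU : genericPoint Y ∈ U := show π (genericPoint Y) ∈ V from e ▸ hηV
  haveI : Nonempty V := ⟨⟨_, hηV⟩⟩
  haveI : Nonempty U := ⟨⟨_, hηU⟩⟩
  haveI := functionField_isFractionRing_of_isAffineOpen X V hV
  haveI := functionField_isFractionRing_of_isAffineOpen Y U hU
  let ψ : X.functionField →+* Y.functionField :=
    (X.presheaf.stalkSpecializes (specializes_of_eq e) ≫ π.stalkMap (genericPoint Y)).hom
  letI algAB : Algebra Γ(X, V) Γ(Y, U) := (π.app V).hom.toAlgebra
  letI : Algebra X.functionField Y.functionField := ψ.toAlgebra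
  letI : Algebra Γ(X, V) Y.functionField := (ψ.comp (algebraMap Γ(X, V) X.functionField)).toAlgebra
  haveI : IsScalarTower Γ(X, V) X.functionField Y.functionField := .of_algebraMap_eq' rfl
  haveI : IsScalarTower Γ(X, V) Γ(Y, U) Y.functionField := .of_algebraMap_eq fun a => by
    show (X.presheaf.stalkSpecializes (specializes_of_eq e) ≫ π.stalkMap (genericPoint Y))
      (X.presheaf.germ V (genericPoint X) hηV a) = Y.presheaf.germ U (genericPoint Y) hηU (π.app V a)
    rw [CommRingCat.comp_apply, TopCat.Presheaf.germ_stalkSpecializes_apply, Scheme.Hom.germ_stalkMap_apply]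
  haveI : Module.Finite Γ(X, V) Γ(Y, U) := IsFinite.finite_app π V hV
  haveI : FaithfulSMul Γ(X, V) Γ(Y, U) := (faithfulSMul_iff_algebraMap_injective _ _).2 fun a b hab =>
    (IsFractionRing.injective Γ(X, V) X.functionField) (ψ.injective (by
      show algebraMap Γ(X, V) Y.functionField a = algebraMap Γ(X, V) Y.functionField b
      rw [IsScalarTower.algebraMap_apply Γ(X, V) Γ(Y, U) Y.functionField a,
        IsScalarTower.algebraMap_apply Γ(X, V) Γ(Y, U) Y.functionField b, hab]))
  haveI : Algebra.FormallyUnramified Γ(X, V) Γ(Y, U) := by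
    have h := π.formallyUnramified_appLE hV hU le_rfl
    rw [← Scheme.Hom.app_eq_appLE] at h
    exact RingHom.formallyUnramified_algebraMap.1 h
  have hdeg : Models.homDegree ψ = Module.finrank Γ(X, V) Γ(Y, U) :=
    IsFractionRing.finrank_eq Γ(X, V) X.functionField Γ(Y, U) Y.functionField
  refine Eq.trans ?_ hdeg.symm
  -- localize at the point
  let m := hV.primeIdealOf ⟨p, hpV⟩
  haveI : m.asIdeal.IsMaximal := hV.primeIdealOf_isMaximal_of_isClosed ⟨p, hpV⟩ hp
  let A := Localization.AtPrime m.asIdeal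
  let M := Algebra.algebraMapSubmonoid Γ(Y, U) m.asIdeal.primeCompl
  let B := Localization M
  have hM : M ≤ nonZeroDivisors Γ(Y, U) := map_le_nonZeroDivisors_of_injective _
    (FaithfulSMul.algebraMap_injective _ _) m.asIdeal.primeCompl_le_nonZeroDivisors
  haveI : IsDomain B := IsLocalization.isDomain_localization hM
  haveI : Module.Finite A B := Module.Finite.of_isLocalization Γ(X, V) Γ(Y, U) m.asIdeal.primeCompl
  haveI : FaithfulSMul A B := (faithfulSMul_iff_algebraMap_injective _ _).2 ((injective_iff_map_eq_zero _).2 fun x hx => by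
    obtain ⟨⟨a, t⟩, ht⟩ := IsLocalization.surj m.asIdeal.primeCompl x
    have h1 := congrArg (algebraMap A B) ht
    rw [map_mul, hx, zero_mul, ← IsScalarTower.algebraMap_apply, IsScalarTower.algebraMap_apply Γ(X, V) Γ(Y, U) B] at h1
    have h2 : a = 0 := FaithfulSMul.algebraMap_injective Γ(X, V) Γ(Y, U)
      (by rw [map_zero]; exact IsLocalization.injective B hM (by rw [map_zero]; exact h1.symm))
    obtain ⟨e, he⟩ := IsLocalization.map_units A t
    rw [h2, map_zero, ← he] at ht
    exact e.mul_left_eq_zero.1 ht)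
  haveI : IsLocalization (Submonoid.map (algebraMap Γ(X, V) Γ(Y, U)) m.asIdeal.primeCompl) B :=
    inferInstanceAs (IsLocalization M B)
  haveI : Algebra.FormallyUnramified A B := Algebra.FormallyUnramified.localization_map (R := Γ(X, V)) (S := Γ(Y, U)) m.asIdeal.primeCompl
  haveI : IsRegularLocalRing A := by
    letI := X.presheaf.algebra_section_stalk (⟨p, hpV⟩ : V)
    haveI : IsLocalization.AtPrime (X.presheaf.stalk p) m.asIdeal := hV.isLocalization_stalk ⟨p, hpV⟩
    haveI := hregX p
    exact IsRegularLocalRing.of_ringEquiv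
      (IsLocalization.algEquiv m.asIdeal.primeCompl (X.presheaf.stalk p) A).toRingEquiv
  have hB : ∀ Q : Ideal B, ∀ [Q.IsMaximal], IsRegularLocalRing (Localization.AtPrime Q) := fun Q _ => by
    let Q₀ := Q.comap (algebraMap Γ(Y, U) B)
    let y := hU.fromSpec ⟨Q₀, inferInstance⟩
    have hy : y ∈ U := by show y ∈ (U : Set Y); rw [← hU.range_fromSpec]; exact ⟨_, rfl⟩
    letI := Y.presheaf.algebra_section_stalk (⟨y, hy⟩ : U)
    haveI : IsLocalization.AtPrime (Y.presheaf.stalk y) Q₀ := hU.isLocalization_stalk' ⟨Q₀, inferInstance⟩ hy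
    haveI := hregY y
    haveI : IsLocalization.AtPrime (Localization.AtPrime Q) Q₀ :=
      IsLocalization.isLocalization_isLocalization_atPrime_isLocalization M (Localization.AtPrime Q) Q
    exact IsRegularLocalRing.of_ringEquiv
      (IsLocalization.algEquiv Q₀.primeCompl (Y.presheaf.stalk y) (Localization.AtPrime Q)).toRingEquiv
  haveI : IsAlgClosed (IsLocalRing.ResidueField A) := by
    letI : Algebra k Γ(X, V) := ((sX.appLE ⊤ V le_top).hom.comp
      (Scheme.ΓSpecIso (CommRingCat.of k)).inv.hom).toAlgebra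
    haveI : Algebra.FiniteType k Γ(X, V) := (sX.finiteType_appLE (isAffineOpen_top _) hV le_top).comp
      (RingHom.FiniteType.of_surjective _ (Scheme.ΓSpecIso (CommRingCat.of k)).symm.commRingCatIsoToRingEquiv.surjective)
    haveI : Module.Finite k (Γ(X, V) ⧸ m.asIdeal) :=
      letI := Ideal.Quotient.field m.asIdeal
      finite_of_finite_type_of_isJacobsonRing k _
    have h1 : Function.Bijective (algebraMap k (Γ(X, V) ⧸ m.asIdeal)) := IsAlgClosed.algebraMap_bijective_of_isIntegral
    exact IsAlgClosed.of_ringEquiv k (IsLocalRing.ResidueField A) ((RingEquiv.ofBijective _ h1).trans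
      (IsLocalization.AtPrime.equivQuotMaximalIdeal m.asIdeal A))
  have hrank : Module.finrank A B = Module.finrank Γ(X, V) Γ(Y, U) :=
    (IsLocalization.finrank_eq A m.asIdeal.primeCompl m.asIdeal.primeCompl_le_nonZeroDivisors).trans
      (IsLocalizedModule.finrank_eq m.asIdeal.primeCompl (IsScalarTower.toAlgHom Γ(X, V) Γ(Y, U) B).toLinearMap
        m.asIdeal.primeCompl_le_nonZeroDivisors)
  rw [← hrank, ← natCard_primes_over hB]
  -- points of the fibre and primes
  let f : {Q : PrimeSpectrum B // PrimeSpectrum.comap (algebraMap A B) Q = IsLocalRing.closedPoint A} →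
      {q : Y // π.base q = p} := fun Q => ⟨hU.fromSpec (PrimeSpectrum.comap (algebraMap Γ(Y, U) B) Q.1), by
    have h1 : π (hU.fromSpec (PrimeSpectrum.comap (algebraMap Γ(Y, U) B) Q.1)) =
        hV.fromSpec (PrimeSpectrum.comap (algebraMap Γ(X, V) Γ(Y, U))
          (PrimeSpectrum.comap (algebraMap Γ(Y, U) B) Q.1)) := by
      have h := congrArg (fun g => g (PrimeSpectrum.comap (algebraMap Γ(Y, U) B) Q.1))
        (hV.SpecMap_appLE_fromSpec π hU (i := le_rfl))
      rw [← Scheme.Hom.app_eq_appLE] at h
      simp only [Scheme.Hom.comp_apply] at h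
      exact h.symm
    refine h1.trans ?_
    rw [← PrimeSpectrum.comap_comp_apply, ← IsScalarTower.algebraMap_eq Γ(X, V) Γ(Y, U) B,
      IsScalarTower.algebraMap_eq Γ(X, V) A B, PrimeSpectrum.comap_comp_apply, Q.2]
    rw [show PrimeSpectrum.comap (algebraMap Γ(X, V) A) (IsLocalRing.closedPoint A) = m from
      PrimeSpectrum.ext (Localization.AtPrime.under_maximalIdeal (R := Γ(X, V)) (I := m.asIdeal))]
    exact hV.fromSpec_primeIdealOf ⟨p, hpV⟩⟩
  refine Nat.card_congr (Equiv.ofBijective f ⟨fun Q Q' h => ?_, fun q => ?_⟩).symm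
  · have h2 : hU.fromSpec (PrimeSpectrum.comap (algebraMap Γ(Y, U) B) Q.1) =
        hU.fromSpec (PrimeSpectrum.comap (algebraMap Γ(Y, U) B) Q'.1) := by
      have h3 := congrArg Subtype.val h
      exact h3
    exact Subtype.ext (PrimeSpectrum.localization_comap_injective B M (hU.fromSpec.isOpenEmbedding.injective h2))
  · have hqU : q.1 ∈ U := show π q.1 ∈ V from q.2.symm ▸ hpV
    let Q₀ := hU.primeIdealOf ⟨q.1, hqU⟩
    have hQ₀ : PrimeSpectrum.comap (algebraMap Γ(X, V) Γ(Y, U)) Q₀ = m := by
      apply hV.fromSpec.isOpenEmbedding.injective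
      have h := congrArg (fun g => g Q₀) (hV.SpecMap_appLE_fromSpec π hU (i := le_rfl))
      rw [← Scheme.Hom.app_eq_appLE] at h
      simp only [Scheme.Hom.comp_apply] at h
      refine h.trans ?_
      rw [hU.fromSpec_primeIdealOf]
      exact q.2.trans (hV.fromSpec_primeIdealOf ⟨p, hpV⟩).symm
    obtain ⟨Q, hQ⟩ : Q₀ ∈ Set.range (PrimeSpectrum.comap (algebraMap Γ(Y, U) B)) := by
      rw [PrimeSpectrum.localization_comap_range B M]
      refine Set.disjoint_left.2 ?_
      rintro _ ⟨s, hs, rfl⟩ hb
      exact hs (hQ₀ ▸ hb)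
    refine ⟨⟨Q, ?_⟩, Subtype.ext (by show hU.fromSpec _ = q.1; rw [hQ]; exact hU.fromSpec_primeIdealOf _)⟩
    apply PrimeSpectrum.localization_comap_injective A m.asIdeal.primeCompl
    rw [show PrimeSpectrum.comap (algebraMap Γ(X, V) A) (IsLocalRing.closedPoint A) = m from
      PrimeSpectrum.ext (Localization.AtPrime.under_maximalIdeal (R := Γ(X, V)) (I := m.asIdeal)),
      ← PrimeSpectrum.comap_comp_apply, ← IsScalarTower.algebraMap_eq Γ(X, V) A B,
      IsScalarTower.algebraMap_eq Γ(X, V) Γ(Y, U) B, PrimeSpectrum.comap_comp_apply, hQ, hQ₀]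

end Groth.Agent.UnramCardLib
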