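import Groth.Agent.CMFlatLib.Local
import Groth.Agent.AbhyankarAbs.Local

/-!
Number of points over the closed point of a finite unramified extension of regular rings.
-/

set_option autoImplicit false
set_option linter.style.haveILetI false

universe u

open IsLocalRing

namespace Groth.Agent.UnramCardLib

/-- The localizations at the maximal ideals of a finite regular extension are flat. -/
theorem flat_of_finite_regular {A B : Type u} [CommRing A] [IsRegularLocalRing A] [CommRing B] [IsDomain B]
    [Algebra A B] [Module.Finite A B] [FaithfulSMul A B]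
    (hB : ∀ Q : Ideal B, ∀ [Q.IsMaximal], IsRegularLocalRing (Localization.AtPrime Q)) : Module.Flat A B := by
  haveI := RegLocal.isDomain (R := A)
  haveI : IsIntegrallyClosed A := (PurityLib.isIntegrallyClosed_of_regular A).2
  haveI : IsNoetherianRing B := IsNoetherianRing.of_finite A B
  refine Module.flat_of_isLocalized_maximal B B (fun P _ => Localization.AtPrime P)
    (fun P _ => Algebra.linearMap B (Localization.AtPrime P)) fun Q hQ => ?_
  let S := Localization.AtPrime Q
  haveI : IsRegularLocalRing S := hB Q
  haveI := RatliffLib.cm_of_regularLocal S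
  have hQA : Q.under A = maximalIdeal A := by
    haveI : (Q.under A).IsMaximal := Ideal.isMaximal_comap_of_isIntegral_of_isMaximal Q
    exact eq_maximalIdeal inferInstance
  refine CMFlatLib.flat_of_cm A S ?_ ?_
  · refine le_antisymm ((Ideal.IsPrime.radical_le_iff inferInstance).2 ?_) ?_
    · rw [Ideal.map_le_iff_le_comap, IsScalarTower.algebraMap_eq A B S, ← Ideal.comap_comap,
        ← Ideal.under_def B (maximalIdeal S), Localization.AtPrime.under_maximalIdeal, ← hQA]
    · rw [Ideal.radical_eq_sInf, le_sInf_iff]
      rintro P ⟨hP, hPp⟩
      haveI := hPp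
      let P₀ := P.comap (algebraMap B S)
      have hP₀Q : P₀ ≤ Q := by
        have h := Ideal.comap_mono (f := algebraMap B S) (le_maximalIdeal hPp.ne_top)
        rwa [← Ideal.under_def B (maximalIdeal S), Localization.AtPrime.under_maximalIdeal] at h
      have hP₀ : (P₀.comap (algebraMap A B)).IsMaximal := by
        have h1 : maximalIdeal A ≤ P₀.comap (algebraMap A B) := by
          rw [Ideal.comap_comap, ← IsScalarTower.algebraMap_eq A B S]
          exact Ideal.map_le_iff_le_comap.1 hP
        rw [← (maximalIdeal.isMaximal A).eq_of_le (Ideal.comap_ne_top _ (Ideal.IsPrime.ne_top inferInstance)) h1]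
        exact maximalIdeal.isMaximal A
      haveI : P₀.IsMaximal := Ideal.isMaximal_of_isIntegral_of_isMaximal_comap P₀ hP₀
      have hEq : P₀ = Q := Ideal.IsMaximal.eq_of_le inferInstance hQ.ne_top hP₀Q
      have hPS : P = P₀.map (algebraMap B S) := (IsLocalization.map_under Q.primeCompl S P).symm
      rw [hPS, hEq, Localization.AtPrime.map_eq_maximalIdeal]
  · rw [IsLocalization.AtPrime.ringKrullDim_eq_height Q S, AbhyankarAbs.height_eq_under (A := A) Q, hQA,
      maximalIdeal_height_eq_ringKrullDim]

/-- The number of points over the closed point is the degree. -/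
theorem natCard_primes_over {A B : Type u} [CommRing A] [IsRegularLocalRing A] [IsAlgClosed (ResidueField A)]
    [CommRing B] [IsDomain B] [Algebra A B] [Module.Finite A B] [FaithfulSMul A B] [Algebra.FormallyUnramified A B]
    (hB : ∀ Q : Ideal B, ∀ [Q.IsMaximal], IsRegularLocalRing (Localization.AtPrime Q)) :
    Nat.card {Q : PrimeSpectrum B // PrimeSpectrum.comap (algebraMap A B) Q = closedPoint A} =
      Module.finrank A B := by
  haveI : Module.Flat A B := flat_of_finite_regular (A := A) hB
  haveI : Module.Free A B := Module.free_of_flat_of_isLocalRing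
  let k := (closedPoint A).asIdeal.ResidueField
  haveI : IsAlgClosed k := IsAlgClosed.of_ringEquiv (ResidueField A) k
    (RingEquiv.ofBijective (algebraMap (A ⧸ maximalIdeal A) (maximalIdeal A).ResidueField)
      (Ideal.bijective_algebraMap_quotient_residueField (maximalIdeal A)))
  let F := TensorProduct A k B
  haveI : Algebra.FormallyUnramified k F := inferInstance
  haveI : Module.Finite k F := inferInstance
  haveI : IsReduced F := Algebra.FormallyUnramified.isReduced_of_field k F
  haveI : IsArtinianRing F := isArtinian_of_tower k inferInstance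
  have hdim : Module.finrank k F = Module.finrank A B := Module.finrank_baseChange
  have hpi : Module.finrank k F = Nat.card (MaximalSpectrum F) := by
    haveI : ∀ I : MaximalSpectrum F, Module.Finite k (F ⧸ I.asIdeal) := fun I =>
      Module.Finite.of_surjective (Ideal.Quotient.mkₐ k I.asIdeal).toLinearMap Ideal.Quotient.mk_surjective
    have h1 : ∀ I : MaximalSpectrum F, Module.finrank k (F ⧸ I.asIdeal) = 1 := fun I => by
      have hb : Function.Bijective (algebraMap k (F ⧸ I.asIdeal)) := by
        haveI : IsDomain (F ⧸ I.asIdeal) := Ideal.Quotient.isDomain _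
        exact IsAlgClosed.algebraMap_bijective_of_isIntegral
      rw [← (LinearEquiv.ofBijective (Algebra.linearMap k _) hb).finrank_eq, Module.finrank_self]
    haveI : Fintype (MaximalSpectrum F) := Fintype.ofFinite _
    rw [(((IsArtinianRing.equivPi F).restrictScalars k).toLinearEquiv).finrank_eq, Module.finrank_pi_fintype,
      Finset.sum_congr rfl fun I _ => h1 I, Finset.sum_const, Finset.card_univ, smul_eq_mul, mul_one,
      Nat.card_eq_fintype_card]
  rw [← hdim, hpi]
  refine Nat.card_congr ?_
  let e := PrimeSpectrum.preimageEquivFiber A B (closedPoint A)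
  refine Equiv.trans (Equiv.subtypeEquivRight fun Q => Iff.rfl) (e.trans ?_)
  exact IsArtinianRing.primeSpectrumEquivMaximalSpectrum (R := F)

end Groth.Agent.UnramCardLib
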